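import Mathlib
import Cfsg.Agent.SporadicA.Co0Basic
import Cfsg.Prelude.Def_Spor_Conway
import Cfsg.Prelude.Def_Classification2
import Cfsg.Prelude.Def_EvenType
import Cfsg.Agent.FastGrp
import Cfsg.Agent.Prune
set_option linter.all false

section
prune_inst 0x7f00000000000000000000000000000000000000000000000000000000000000000000000000000000000000000000000000000000000000000000000000000000000000000000000000000000000000003fffffffffffffffffffffffffffbeffbdffffffff

-- part: H517/NSC
section
set_option linter.all false
open scoped Cfsg.Agent.FastGrp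

/-!
# Groups with a nonsolvable involution centralizer (helper517)

* `NSC G` : some involution `t` of `G` has a nonsolvable centralizer; `NSC.of_injective`, `NSC.of_equiv`;
* `NSC.of_le` : a nonsolvable subgroup of the centralizer of an involution;
* `not_isSolvable_of_le_commutator` : a nontrivial subgroup `K ≤ ⁅K, K⁆` is not solvable;
* `not_isSolvable_triangle` : `a² = b³ = (ab)⁵ = 1` or `a² = b³ = (ab)⁷ = 1`, `a ≠ 1`;
* `A4.not_isSolvable` : four involutions with the Coxeter relations of type `A₄`, the first two distinct.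
-/

set_option autoImplicit false

namespace Cfsg.Agent.H517

open Subgroup

/-- Some involution of `G` has a nonsolvable centralizer. -/
def NSC (G : Type*) [Group G] : Prop :=
  ∃ t : G, t ≠ 1 ∧ t * t = 1 ∧ ¬ Group.IsSolvable (Subgroup.centralizer ({t} : Set G))

theorem isSolvable_mono {G : Type*} [Group G] {K L : Subgroup G} (h : K ≤ L) (hL : Group.IsSolvable L) :
    Group.IsSolvable K :=
  Group.isSolvable_of_isSolvable_injective (f := Subgroup.inclusion h) (Subgroup.inclusion_injective h)

theorem NSC.of_le {G : Type*} [Group G] {t : G} (h1 : t ≠ 1) (h2 : t * t = 1) (K : Subgroup G)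
    (hK : ¬ Group.IsSolvable K) (hc : ∀ k ∈ K, k * t = t * k) : NSC G := by
  refine ⟨t, h1, h2, fun h => hK (isSolvable_mono ?_ h)⟩
  intro k hk
  rw [Subgroup.mem_centralizer_singleton_iff]
  exact hc k hk

/-- a homomorphism with solvable kernel from a nonsolvable group into the centralizer -/
theorem NSC.of_hom {G Q : Type*} [Group G] [Group Q] {t : G} (h1 : t ≠ 1) (h2 : t * t = 1) (f : Q →* G)
    (hQ : ¬ Group.IsSolvable Q) (hk : Group.IsSolvable f.ker) (hc : ∀ x, f x * t = t * f x) : NSC G := by
  refine NSC.of_le h1 h2 f.range ?_ ?_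
  · intro h
    apply hQ
    have : Group.IsSolvable f.range := h
    exact Group.isSolvable_of_ker_le_range (f.ker.subtype) f.rangeRestrict (by
      intro x hx
      rw [MonoidHom.ker_rangeRestrict] at hx
      exact ⟨⟨x, hx⟩, rfl⟩)
  · rintro _ ⟨x, rfl⟩
    exact hc x

theorem NSC.of_injective {G H : Type*} [Group G] [Group H] (f : H →* G) (hf : Function.Injective f) (h : NSC H) :
    NSC G := by
  obtain ⟨t, h1, h2, h3⟩ := h
  refine NSC.of_le (t := f t) (fun h => h1 (hf (by rw [h, map_one]))) (by rw [← map_mul, h2, map_one])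
    ((Subgroup.centralizer ({t} : Set H)).map f) ?_ ?_
  · intro h
    apply h3
    exact Group.isSolvable_of_isSolvable_injective
      (f := ((Subgroup.centralizer ({t} : Set H)).equivMapOfInjective f hf).toMonoidHom)
      (MulEquiv.injective _)
  · rintro _ ⟨x, hx, rfl⟩
    rw [← map_mul, ← map_mul, (Subgroup.mem_centralizer_singleton_iff.1 hx)]

theorem NSC.of_equiv {G H : Type*} [Group G] [Group H] (e : H ≃* G) (h : NSC H) : NSC G :=
  h.of_injective e.toMonoidHom e.injective

theorem NSC.of_subgroup {G : Type*} [Group G] {H : Subgroup G} (h : NSC H) : NSC G :=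
  h.of_injective H.subtype H.subtype_injective

/-- the form used in the statements -/
theorem NSC.not_all {G : Type*} [Group G] (h : NSC G)
    (hs : ∀ t : G, t ≠ 1 → t * t = 1 → Group.IsSolvable (Subgroup.centralizer ({t} : Set G))) : False := by
  obtain ⟨t, h1, h2, h3⟩ := h
  exact h3 (hs t h1 h2)

/-- If `Q` is a nonsolvable subgroup of `G` centralised by a non-central element whose square is central, then `G / Z(G)` has a
nonsolvable involution centralizer. -/
theorem NSC.of_quotient_center {Q G : Type*} [Group Q] [Group G]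
    (hQ : ¬ Group.IsSolvable Q) (f : Q →* G) (hf : Function.Injective f) (z : G)
    (hz : z ∉ Subgroup.center G) (hz2 : z * z ∈ Subgroup.center G) (hcomm : ∀ x, f x * z = z * f x) :
    NSC (G ⧸ Subgroup.center G) := by
  set π : G →* G ⧸ Subgroup.center G := QuotientGroup.mk' _ with hπ
  have hz1 : π z ≠ 1 := by
    intro h
    exact hz ((QuotientGroup.eq_one_iff z).1 h)
  have hz3 : π z * π z = 1 := by
    rw [← map_mul]
    exact (QuotientGroup.eq_one_iff (z * z)).2 hz2
  refine NSC.of_hom hz1 hz3 (π.comp f) hQ ?_ ?_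
  · have hcen : ∀ a b : (π.comp f).ker, a * b = b * a := by
      intro a b
      apply Subtype.ext
      apply hf
      have ha : f a ∈ Subgroup.center G := (QuotientGroup.eq_one_iff (f a)).1 a.2
      change f (a * b) = f (b * a)
      rw [map_mul, map_mul]
      exact (Subgroup.mem_center_iff.1 ha (f b)).symm
    exact Group.isSolvable_of_comm hcen
  · intro x
    change π (f x) * π z = π z * π (f x)
    rw [← map_mul, ← map_mul, hcomm]

/-- A nontrivial subgroup contained in its commutator subgroup is not solvable. -/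
theorem not_isSolvable_of_le_commutator {G : Type*} [Group G] {K : Subgroup G} (h : K ≤ ⁅K, K⁆) (h1 : K ≠ ⊥) :
    ¬ Group.IsSolvable K := by
  intro hs
  have hperf : commutator K = ⊤ := by
    rw [eq_top_iff, ← Subgroup.map_le_map_iff_of_injective K.subtype_injective]
    rw [commutator_def, Subgroup.map_commutator, ← MonoidHom.range_eq_map, Subgroup.range_subtype]
    exact h
  have hn : Nontrivial K := by
    rw [← Subgroup.nontrivial_iff_ne_bot] at h1
    exact h1
  have := Group.IsSolvable.commutator_lt_top_of_nontrivial K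
  exact this.ne hperf

/-- A group of which every homomorphism to a commutative group is trivial. -/
theorem not_isSolvable_of_gen {G : Type*} [Group G] {S : Set G} (h1 : ∃ x ∈ S, x ≠ 1)
    (h : ∀ x ∈ S, x ∈ ⁅closure S, closure S⁆) : ¬ Group.IsSolvable (closure S) := by
  apply not_isSolvable_of_le_commutator
  · rw [closure_le]
    exact h
  · obtain ⟨x, hx, hx1⟩ := h1
    intro h2
    apply hx1
    have : x ∈ closure S := subset_closure hx
    rwa [h2, mem_bot] at this

/-- two elements of coprime order whose product has order prime to both: the generated group is perfect -/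
theorem not_isSolvable_triangle {G : Type*} [Group G] {a b : G} {p q r : ℕ} (ha : a ^ p = 1) (hb : b ^ q = 1)
    (hab : (a * b) ^ r = 1) (hpq : Nat.Coprime p q) (hpr : Nat.Coprime p r) (hqr : Nat.Coprime q r)
    (h1 : a ≠ 1 ∨ b ≠ 1) : ¬ Group.IsSolvable (closure ({a, b} : Set G)) := by
  intro hs
  set K := closure ({a, b} : Set G) with hK
  have haK : a ∈ K := subset_closure (by simp)
  have hbK : b ∈ K := subset_closure (by simp)
  have hn : Nontrivial K := by
    rcases h1 with h | h
    · exact ⟨⟨a, haK⟩, 1, fun h2 => h (congrArg Subtype.val h2)⟩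
    · exact ⟨⟨b, hbK⟩, 1, fun h2 => h (congrArg Subtype.val h2)⟩
  have hlt := Group.IsSolvable.commutator_lt_top_of_nontrivial K
  apply hlt.ne
  -- the images in the abelianization are trivial
  let A : Abelianization K := Abelianization.of ⟨a, haK⟩
  let B : Abelianization K := Abelianization.of ⟨b, hbK⟩
  have hA : A ^ p = 1 := by
    change Abelianization.of _ ^ p = 1
    rw [← map_pow]
    have : (⟨a, haK⟩ : K) ^ p = 1 := Subtype.ext ha
    rw [this, map_one]
  have hB : B ^ q = 1 := by
    change Abelianization.of _ ^ q = 1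
    rw [← map_pow]
    have : (⟨b, hbK⟩ : K) ^ q = 1 := Subtype.ext hb
    rw [this, map_one]
  have hAB : (A * B) ^ r = 1 := by
    change (Abelianization.of _ * Abelianization.of _) ^ r = 1
    rw [← map_mul, ← map_pow]
    have : ((⟨a, haK⟩ : K) * ⟨b, hbK⟩) ^ r = 1 := Subtype.ext hab
    rw [this, map_one]
  have hAr : A ^ (q * r) = 1 := by
    have h2 : (A * B) ^ (q * r) = 1 := by rw [mul_comm q r, pow_mul, hAB, one_pow]
    rw [mul_pow, pow_mul B, hB, one_pow, mul_one] at h2
    exact h2
  have hA1 : A = 1 := by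
    have h2 : orderOf A ∣ p := orderOf_dvd_of_pow_eq_one hA
    have h3 : orderOf A ∣ q * r := orderOf_dvd_of_pow_eq_one hAr
    have h4 : orderOf A ∣ 1 := by
      have := Nat.dvd_gcd h2 h3
      rwa [Nat.Coprime.gcd_eq_one (Nat.Coprime.mul_right hpq hpr)] at this
    exact orderOf_eq_one_iff.1 (Nat.dvd_one.1 h4)
  have hB1 : B = 1 := by
    rw [hA1, one_mul] at hAB
    have h2 : orderOf B ∣ q := orderOf_dvd_of_pow_eq_one hB
    have h3 : orderOf B ∣ r := orderOf_dvd_of_pow_eq_one hAB
    have h4 : orderOf B ∣ 1 := by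
      have := Nat.dvd_gcd h2 h3
      rwa [Nat.Coprime.gcd_eq_one hqr] at this
    exact orderOf_eq_one_iff.1 (Nat.dvd_one.1 h4)
  have ha' : (⟨a, haK⟩ : K) ∈ commutator K := by
    rw [← Abelianization.ker_of]; exact hA1
  have hb' : (⟨b, hbK⟩ : K) ∈ commutator K := by
    rw [← Abelianization.ker_of]; exact hB1
  rw [eq_top_iff]
  have h5 : K ≤ (commutator K).map K.subtype := by
    rw [hK, closure_le]
    rintro x (rfl | rfl)
    · exact ⟨_, ha', rfl⟩
    · exact ⟨_, hb', rfl⟩
  intro x _
  obtain ⟨y, hy, hyx⟩ := h5 x.2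
  have : y = x := Subtype.ext hyx
  rwa [← this]

/-- involution commuting with a `(p, q, r)`-triangle group -/
theorem NSC.of_triangle {G : Type*} [Group G] {t a b : G} (p q r : ℕ) (h1 : t ≠ 1) (h2 : t * t = 1)
    (hta : a * t = t * a) (htb : b * t = t * b) (ha : a ^ p = 1) (hb : b ^ q = 1)
    (hab : (a * b) ^ r = 1) (hpq : Nat.Coprime p q) (hpr : Nat.Coprime p r) (hqr : Nat.Coprime q r)
    (hab1 : a ≠ 1 ∨ b ≠ 1) : NSC G := by
  refine NSC.of_le h1 h2 _ (not_isSolvable_triangle ha hb hab hpq hpr hqr hab1) ?_
  have hle : closure ({a, b} : Set G) ≤ Subgroup.centralizer ({t} : Set G) := by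
    rw [closure_le]
    rintro x (rfl | rfl)
    · exact Subgroup.mem_centralizer_singleton_iff.2 hta
    · exact Subgroup.mem_centralizer_singleton_iff.2 htb
  intro k hk
  exact Subgroup.mem_centralizer_singleton_iff.1 (hle hk)

end Cfsg.Agent.H517
end

-- part: H517/Alt
section
set_option linter.all false
open scoped Cfsg.Agent.FastGrp

/-!
# Alternating groups (helper517)

`A_n`, `n ≥ 5`, is not solvable, and `A_n`, `n ≥ 9`, has a nonsolvable involution centralizer.
-/

set_option autoImplicit false

namespace Cfsg.Agent.H517.Alt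

open Subgroup Equiv

theorem not_isSolvable_five : ¬ Group.IsSolvable (alternatingGroup (Fin 5)) := by
  intro h
  apply Equiv.Perm.not_isSolvable_fin_5
  have h1 : Group.IsSolvable (Equiv.Perm.sign (α := Fin 5)).ker := h
  exact Group.isSolvable_of_ker_le_range ((Equiv.Perm.sign (α := Fin 5)).ker.subtype) (Equiv.Perm.sign (α := Fin 5))
    (by rw [Subgroup.range_subtype])

/-- `A_m → A_n`, `m ≤ n` -/
noncomputable def emb {m n : ℕ} (h : m ≤ n) : alternatingGroup (Fin m) →* alternatingGroup (Fin n) :=
  ((Equiv.Perm.extendDomainHom (Fin.castLEOrderIso h).toEquiv).comp (alternatingGroup (Fin m)).subtype).codRestrict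
    (alternatingGroup (Fin n)) (fun x => by
      rw [Equiv.Perm.mem_alternatingGroup]
      change Equiv.Perm.sign (Equiv.Perm.extendDomain (x : Equiv.Perm (Fin m)) _) = 1
      rw [Equiv.Perm.sign_extendDomain]
      exact x.2)

theorem emb_injective {m n : ℕ} (h : m ≤ n) : Function.Injective (emb h) := by
  intro x y hxy
  have h1 := congrArg Subtype.val hxy
  exact Subtype.ext (Equiv.Perm.extendDomainHom_injective _ h1)

theorem not_isSolvable {n : ℕ} (hn : 5 ≤ n) : ¬ Group.IsSolvable (alternatingGroup (Fin n)) := by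
  intro h
  exact not_isSolvable_five (Group.isSolvable_of_isSolvable_injective (f := emb hn) (emb_injective hn))

theorem nsc_nine : NSC (alternatingGroup (Fin 9)) := by
  let t : alternatingGroup (Fin 9) := ⟨swap 5 6 * swap 7 8, by rw [Equiv.Perm.mem_alternatingGroup]; decide⟩
  let a : alternatingGroup (Fin 9) := ⟨swap 0 1 * swap 2 3, by rw [Equiv.Perm.mem_alternatingGroup]; decide⟩
  let b : alternatingGroup (Fin 9) := ⟨swap 0 2 * swap 2 4, by rw [Equiv.Perm.mem_alternatingGroup]; decide⟩
  refine NSC.of_triangle (t := t) (a := a) (b := b) 2 3 5 (by decide) (by decide) (by decide) (by decide) (by decide)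
    (by decide) (by decide) (by norm_num) (by norm_num) (by norm_num) (by decide)

theorem nsc {n : ℕ} (hn : 9 ≤ n) : NSC (alternatingGroup (Fin n)) :=
  nsc_nine.of_injective (emb hn) (emb_injective hn)

end Cfsg.Agent.H517.Alt
end

-- part: H517/Cox
section
set_option linter.all false
open scoped Cfsg.Agent.FastGrp

/-!
# Four involutions with the Coxeter relations of type `A₄` (helper517)

`A4 s₁ s₂ s₃ s₄`: the relations; `A4.not_isSolvable`: if `s₁ ≠ s₂` then `⟨s₁s₂, s₂s₃, s₃s₄⟩` is not solvable.
-/

set_option autoImplicit false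

namespace Cfsg.Agent.H517

open Subgroup
open scoped commutatorElement

/-- the Coxeter relations of type `A₄` -/
structure A4 {G : Type*} [Group G] (a b c d : G) : Prop where
  a2 : a * a = 1
  b2 : b * b = 1
  c2 : c * c = 1
  d2 : d * d = 1
  ab : a * b * a = b * a * b
  bc : b * c * b = c * b * c
  cd : c * d * c = d * c * d
  ac : a * c = c * a
  ad : a * d = d * a
  bd : b * d = d * b

theorem braid_of {G : Type*} [Group G] {a b : G} (ha : a * a = 1) (hb : b * b = 1) (h : (a * b) ^ 3 = 1) :
    a * b * a = b * a * b := by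
  have h1 : a * b * a * (b * a * b) = 1 := by
    rw [← h, pow_succ, pow_two]; group
  have h2 : (b * a * b) * (b * a * b) = 1 := by
    calc (b * a * b) * (b * a * b) = b * a * (b * b) * a * b := by group
      _ = b * (a * a) * b := by rw [hb]; group
      _ = 1 := by rw [ha, mul_one, hb]
  exact mul_right_cancel (h1.trans h2.symm)

theorem comm_of {G : Type*} [Group G] {a b : G} (ha : a * a = 1) (hb : b * b = 1) (h : (a * b) ^ 2 = 1) :
    a * b = b * a := by
  have h1 : a * b * (a * b) = 1 := by rw [← pow_two, h]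
  have h2 : (b * a) * (a * b) = 1 := by
    calc (b * a) * (a * b) = b * (a * a) * b := by group
      _ = 1 := by rw [ha, mul_one, hb]
  exact mul_right_cancel (h1.trans h2.symm)

namespace A4

variable {G : Type*} [Group G] {a b c d : G}

theorem inv_a (h : A4 a b c d) : a⁻¹ = a := inv_eq_of_mul_eq_one_right h.a2
theorem inv_b (h : A4 a b c d) : b⁻¹ = b := inv_eq_of_mul_eq_one_right h.b2
theorem inv_c (h : A4 a b c d) : c⁻¹ = c := inv_eq_of_mul_eq_one_right h.c2
theorem inv_d (h : A4 a b c d) : d⁻¹ = d := inv_eq_of_mul_eq_one_right h.d2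

theorem conj_a (h : A4 a b c d) : (a * b * (c * d)) * a * (a * b * (c * d))⁻¹ = b := by
  have h1 : (a * b * (c * d)) * a = b * (a * b * (c * d)) := by
    calc (a * b * (c * d)) * a = a * b * c * (a * d) := by rw [h.ad]; group
      _ = a * b * (c * a) * d := by group
      _ = (a * b * a) * c * d := by rw [← h.ac]; group
      _ = b * (a * b * (c * d)) := by rw [h.ab]; group
  rw [h1]; group

theorem conj_b (h : A4 a b c d) : (a * b * (c * d)) * b * (a * b * (c * d))⁻¹ = c := by
  have h1 : (a * b * (c * d)) * b = c * (a * b * (c * d)) := by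
    calc (a * b * (c * d)) * b = a * (b * c * (b * d)) := by rw [h.bd]; group
      _ = a * (b * c * b) * d := by group
      _ = a * c * b * c * d := by rw [h.bc]; group
      _ = c * (a * b * (c * d)) := by rw [h.ac]; group
  rw [h1]; group

theorem conj_c (h : A4 a b c d) : (a * b * (c * d)) * c * (a * b * (c * d))⁻¹ = d := by
  have h1 : (a * b * (c * d)) * c = d * (a * b * (c * d)) := by
    calc (a * b * (c * d)) * c = a * b * (c * d * c) := by group
      _ = a * (b * d) * c * d := by rw [h.cd]; group
      _ = (a * d) * b * c * d := by rw [h.bd]; group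
      _ = d * (a * b * (c * d)) := by rw [h.ad]; group
  rw [h1]; group

theorem comm_eq (h : A4 a b c d) :
    (a * b) * (c * d) * (a * b)⁻¹ * (c * d)⁻¹ = (b * c) * (a * b)⁻¹ * (b * c)⁻¹ := by
  rw [mul_inv_rev, mul_inv_rev, mul_inv_rev, h.inv_a, h.inv_b, h.inv_c, h.inv_d]
  calc a * b * (c * d) * (b * a) * (d * c) = a * b * c * (d * b) * a * d * c := by group
    _ = a * (b * c * b) * d * (a * d) * c := by rw [← h.bd]; group
    _ = a * c * b * c * (d * d) * a * c := by rw [h.bc, h.ad]; group
    _ = (a * c) * b * (c * a) * c := by rw [h.d2]; group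
    _ = (a * c) * b * (a * c) * c := by rw [← h.ac]
    _ = (a * c) * (b * a) * (c * c) := by group
    _ = c * (a * b * a) * (c * c) := by rw [h.ac]; group
    _ = c * (b * a * b) := by rw [h.c2, h.ab, mul_one]
    _ = c * b * (c * c) * a * b := by rw [h.c2]; group
    _ = (c * b * c) * (c * a) * b := by group
    _ = (b * c) * (b * a) * (c * b) := by rw [← h.bc, ← h.ac]; group

theorem conj_mem {D : Subgroup G} {g x : G} (hg : g ∈ D) (hx : x ∈ ⁅D, D⁆) (hx' : x ∈ D) :
    g * x * g⁻¹ ∈ ⁅D, D⁆ := by
  have h1 : g * x * g⁻¹ = ⁅g, x⁆ * x := by rw [commutatorElement_def]; group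
  rw [h1]
  exact mul_mem (commutator_mem_commutator hg hx') hx

theorem not_isSolvable (h : A4 a b c d) (hne : a ≠ b) :
    ¬ Group.IsSolvable (closure ({a * b, b * c, c * d} : Set G)) := by
  set D := closure ({a * b, b * c, c * d} : Set G) with hD
  have hx : a * b ∈ D := subset_closure (by simp)
  have hy : b * c ∈ D := subset_closure (by simp)
  have hz : c * d ∈ D := subset_closure (by simp)
  have hw : a * b * (c * d) ∈ D := mul_mem hx hz
  have hxc : a * b ∈ ⁅D, D⁆ := by
    have h1 : ⁅a * b, c * d⁆ ∈ ⁅D, D⁆ := commutator_mem_commutator hx hz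
    have h1' : ⁅a * b, c * d⁆ ∈ D := by
      rw [commutatorElement_def]
      exact mul_mem (mul_mem (mul_mem hx hz) (inv_mem hx)) (inv_mem hz)
    have h2 : (b * c)⁻¹ * ⁅a * b, c * d⁆ * ((b * c)⁻¹)⁻¹ ∈ ⁅D, D⁆ := conj_mem (inv_mem hy) h1 h1'
    have h3 : (b * c)⁻¹ * ⁅a * b, c * d⁆ * ((b * c)⁻¹)⁻¹ = (a * b)⁻¹ := by
      rw [commutatorElement_def, h.comm_eq]; group
    rw [h3] at h2
    exact inv_mem_iff.1 h2
  have hyc : b * c ∈ ⁅D, D⁆ := by
    have h2 := conj_mem hw hxc hx
    have h3 : (a * b * (c * d)) * (a * b) * (a * b * (c * d))⁻¹ = b * c := by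
      calc (a * b * (c * d)) * (a * b) * (a * b * (c * d))⁻¹
          = ((a * b * (c * d)) * a * (a * b * (c * d))⁻¹) * ((a * b * (c * d)) * b * (a * b * (c * d))⁻¹) := by group
        _ = b * c := by rw [h.conj_a, h.conj_b]
    rwa [h3] at h2
  have hzc : c * d ∈ ⁅D, D⁆ := by
    have h2 := conj_mem hw hyc hy
    have h3 : (a * b * (c * d)) * (b * c) * (a * b * (c * d))⁻¹ = c * d := by
      calc (a * b * (c * d)) * (b * c) * (a * b * (c * d))⁻¹
          = ((a * b * (c * d)) * b * (a * b * (c * d))⁻¹) * ((a * b * (c * d)) * c * (a * b * (c * d))⁻¹) := by group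
        _ = c * d := by rw [h.conj_b, h.conj_c]
    rwa [h3] at h2
  apply not_isSolvable_of_gen
  · refine ⟨a * b, by simp, fun h1 => hne ?_⟩
    calc a = a * (b * b) := by rw [h.b2, mul_one]
      _ = (a * b) * b := by group
      _ = b := by rw [h1, one_mul]
  · rintro x (rfl | rfl | rfl)
    · exact hxc
    · exact hyc
    · exact hzc

end A4

/-- equal nonadjacent nodes collapse: `a = c` with `b` adjacent to `a` and commuting with `c` -/
theorem eq_of_adj {G : Type*} [Group G] {a b c : G} (ha : a * a = 1) (hb : b * b = 1) (hac : a = c)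
    (hbr : (a * b) ^ 3 = 1) (hco : (b * c) ^ 2 = 1) : a = b := by
  subst hac
  have h1 := braid_of ha hb hbr
  have h2 := comm_of hb ha hco
  -- `a b a = b a b` and `b a = a b`
  have h3 : a * b * a = b := by rw [← h2, mul_assoc, ha, mul_one]
  have h4 : b * a * b = a := by rw [h2, mul_assoc, hb, mul_one]
  rw [h3, h4] at h1
  exact h1.symm

end Cfsg.Agent.H517
end

-- part: H517/Conway
section
set_option linter.all false
open scoped Cfsg.Agent.FastGrp

/-!
# `Co1` and `Co2` (helper517)

`McL ≤ Co2` and `McL` embeds in `Co1`.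
-/

set_option autoImplicit false

namespace Cfsg.Agent.H517.Conway

open Subgroup Cfsg Cfsg.Spor Cfsg.Agent.SporadicA.Co0Basic

theorem mcl_le_co2 : Spor.McL ≤ Spor.Co2 := by
  intro x hx
  exact ⟨hx.1.1, hx.2⟩

theorem mcl_le_co0 : Spor.McL ≤ Co0 := fun _ hx => hx.1.1

theorem co2 (h : NSC ↥Spor.McL) : NSC ↥Spor.Co2 :=
  h.of_injective (Subgroup.inclusion mcl_le_co2) (Subgroup.inclusion_injective _)

theorem not_central {x : ↥Spor.McL} (h : Subgroup.inclusion mcl_le_co0 x ∈ center Co0) : x = 1 := by
  rcases eq_one_or_neg_of_mem_center h with h1 | h1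
  · exact Subgroup.inclusion_injective mcl_le_co0 (by rw [h1, map_one])
  · exfalso
    have h2 : (x : Equiv.Perm leechLattice) leechU = leechU := x.2.2
    have h3 : (x : Equiv.Perm leechLattice) leechU = -leechU := by
      have := congrArg (fun y : Co0 => (y : Equiv.Perm leechLattice) leechU) h1
      exact this
    rw [h2] at h3
    have h4 := congrArg (fun v : leechLattice => (v : GolayPt → ℤ) none) h3
    change vecU none = -vecU none at h4
    simp [vecU] at h4

theorem co1 (h : NSC ↥Spor.McL) : NSC Spor.Co1 := by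
  refine h.of_injective ((QuotientGroup.mk' (center Co0)).comp (Subgroup.inclusion mcl_le_co0)) ?_
  rw [← MonoidHom.ker_eq_bot_iff, eq_bot_iff]
  intro x hx
  rw [MonoidHom.mem_ker] at hx
  exact Subgroup.mem_bot.2 (not_central ((QuotientGroup.eq_one_iff _).1 hx))

end Cfsg.Agent.H517.Conway

private theorem dce_fd28d48ab8c8 : _root_.True := by
  try have : _root_.True := by simp only [_root_.Cfsg.Spor.vecU.eq_1]
  exact _root_.True.intro
end

-- part: H517/SporCox
section
set_option linter.all false
open scoped Cfsg.Agent.FastGrp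

/-!
# `Fi22`, `Fi23`, `Fi24'`, `B`, `M` have an involution with a nonsolvable centralizer (helper517)

Only the Coxeter relations of the presentations are used: a node (or a product of two nodes) commutes with a path of four nodes.
-/

set_option autoImplicit false

namespace Cfsg.Agent.H517.SporCox

open Subgroup Cfsg.Spor

section general

variable {α : Type} [DecidableEq α] {edges : List (α × ℕ × α)} {extra : List (FreeGroup α)}

/-- the Coxeter relations in the presented group -/
theorem cox_rel {x y : α} {n : ℕ} (hx : x ∈ coxNodes edges) (hy : y ∈ coxNodes edges)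
    (hn : coxLabel edges x y = n) :
    ((PresentedGroup.of x : CoxPresented α edges extra) * PresentedGroup.of y) ^ n = 1 := by
  subst hn
  have h : (FreeGroup.of x * FreeGroup.of y) ^ coxLabel edges x y ∈ coxRelators edges ∪ {r | r ∈ extra} :=
    Or.inl ⟨x, hx, y, hy, rfl⟩
  have h2 := PresentedGroup.one_of_mem h
  rw [map_pow, map_mul] at h2
  exact h2

theorem cox_sq {x : α} (hx : x ∈ coxNodes edges) :
    (PresentedGroup.of x : CoxPresented α edges extra) * PresentedGroup.of x = 1 := by
  have h := cox_rel (extra := extra) hx hx (n := 1) (by simp [coxLabel])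
  rwa [pow_one] at h

theorem cox_comm {x y : α} (hx : x ∈ coxNodes edges) (hy : y ∈ coxNodes edges) (hn : coxLabel edges x y = 2) :
    (PresentedGroup.of x : CoxPresented α edges extra) * PresentedGroup.of y =
      PresentedGroup.of y * PresentedGroup.of x :=
  comm_of (cox_sq hx) (cox_sq hy) (cox_rel hx hy hn)

theorem cox_braid {x y : α} (hx : x ∈ coxNodes edges) (hy : y ∈ coxNodes edges) (hn : coxLabel edges x y = 3) :
    (PresentedGroup.of x : CoxPresented α edges extra) * PresentedGroup.of y * PresentedGroup.of x =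
      PresentedGroup.of y * PresentedGroup.of x * PresentedGroup.of y :=
  braid_of (cox_sq hx) (cox_sq hy) (cox_rel hx hy hn)

/-- if `x = z` and `y` is adjacent to `x` and not to `z` then `x = y` -/
theorem cox_step {x y z : α} (hx : x ∈ coxNodes edges) (hy : y ∈ coxNodes edges) (hz : z ∈ coxNodes edges)
    (hxy : coxLabel edges x y = 3) (hyz : coxLabel edges y z = 2)
    (h : (PresentedGroup.of x : CoxPresented α edges extra) = PresentedGroup.of z) :
    (PresentedGroup.of x : CoxPresented α edges extra) = PresentedGroup.of y :=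
  eq_of_adj (cox_sq hx) (cox_sq hy) h (cox_rel hx hy hxy) (cox_rel hy hz hyz)

/-- a path of four nodes -/
theorem cox_A4 {a b c d : α} (ha : a ∈ coxNodes edges) (hb : b ∈ coxNodes edges) (hc : c ∈ coxNodes edges)
    (hd : d ∈ coxNodes edges) (hab : coxLabel edges a b = 3) (hbc : coxLabel edges b c = 3)
    (hcd : coxLabel edges c d = 3) (hac : coxLabel edges a c = 2) (had : coxLabel edges a d = 2)
    (hbd : coxLabel edges b d = 2) :
    A4 (PresentedGroup.of a : CoxPresented α edges extra) (PresentedGroup.of b) (PresentedGroup.of c)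
      (PresentedGroup.of d) where
  a2 := cox_sq ha
  b2 := cox_sq hb
  c2 := cox_sq hc
  d2 := cox_sq hd
  ab := cox_braid ha hb hab
  bc := cox_braid hb hc hbc
  cd := cox_braid hc hd hcd
  ac := cox_comm ha hc hac
  ad := cox_comm ha hd had
  bd := cox_comm hb hd hbd

/-- a group generated by one element is commutative -/
theorem comm_of_all_eq {x₀ : α}
    (h : ∀ x : α, (PresentedGroup.of x : CoxPresented α edges extra) = PresentedGroup.of x₀)
    (g g' : CoxPresented α edges extra) : g * g' = g' * g := by
  have h1 : (⊤ : Subgroup (CoxPresented α edges extra)) ≤ Subgroup.zpowers (PresentedGroup.of x₀) := by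
    rw [← PresentedGroup.closure_range_of, closure_le]
    rintro _ ⟨x, rfl⟩
    rw [h x]
    exact Subgroup.mem_zpowers _
  obtain ⟨m, rfl⟩ := Subgroup.mem_zpowers_iff.1 (h1 (mem_top g))
  obtain ⟨n, rfl⟩ := Subgroup.mem_zpowers_iff.1 (h1 (mem_top g'))
  rw [← zpow_add, ← zpow_add, add_comm]

end general

/-! ### an involution commuting with a path -/

theorem nsc_of_path {G : Type*} [Group G] {t a b c d : G} (h : A4 a b c d) (hne : a ≠ b) (ht1 : t ≠ 1)
    (ht2 : t * t = 1) (hta : t * a = a * t) (htb : t * b = b * t) (htc : t * c = c * t) (htd : t * d = d * t) :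
    NSC G := by
  refine NSC.of_le ht1 ht2 _ (h.not_isSolvable hne) ?_
  have hle : closure ({a * b, b * c, c * d} : Set G) ≤ Subgroup.centralizer ({t} : Set G) := by
    rw [closure_le]
    have h2 : ∀ x y : G, t * x = x * t → t * y = y * t → x * y ∈ Subgroup.centralizer ({t} : Set G) := by
      intro x y hx hy
      rw [Subgroup.mem_centralizer_singleton_iff, mul_assoc, ← hy, ← mul_assoc, ← hx, mul_assoc]
    rintro x (rfl | rfl | rfl)
    · exact h2 _ _ hta htb
    · exact h2 _ _ htb htc
    · exact h2 _ _ htc htd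
  intro k hk
  exact Subgroup.mem_centralizer_singleton_iff.1 (hle hk)

/-- the same in a subgroup `H` containing `t` and the products of two nodes -/
theorem nsc_of_path_sub {G : Type*} [Group G] {H : Subgroup G} {t a b c d : G} (h : A4 a b c d) (hne : a ≠ b)
    (ht1 : t ≠ 1) (ht2 : t * t = 1) (hta : t * a = a * t) (htb : t * b = b * t) (htc : t * c = c * t)
    (htd : t * d = d * t) (htH : t ∈ H) (habH : a * b ∈ H) (hbcH : b * c ∈ H) (hcdH : c * d ∈ H) : NSC H := by
  set D := closure ({a * b, b * c, c * d} : Set G) with hD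
  have hDH : D ≤ H := by
    rw [hD, closure_le]
    rintro x (rfl | rfl | rfl)
    · exact habH
    · exact hbcH
    · exact hcdH
  have hns : ¬ Group.IsSolvable (D.subgroupOf H) := by
    intro hs
    apply h.not_isSolvable hne
    exact Group.isSolvable_of_isSolvable_injective (f := (Subgroup.subgroupOfEquivOfLe hDH).symm.toMonoidHom)
      (MulEquiv.injective _)
  refine NSC.of_le (t := (⟨t, htH⟩ : H)) (fun h1 => ht1 (congrArg Subtype.val h1)) (Subtype.ext ht2) _ hns ?_
  have hle : D ≤ Subgroup.centralizer ({t} : Set G) := by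
    rw [hD, closure_le]
    have h2 : ∀ x y : G, t * x = x * t → t * y = y * t → x * y ∈ Subgroup.centralizer ({t} : Set G) := by
      intro x y hx hy
      rw [Subgroup.mem_centralizer_singleton_iff, mul_assoc, ← hy, ← mul_assoc, ← hx, mul_assoc]
    rintro x (rfl | rfl | rfl)
    · exact h2 _ _ hta htb
    · exact h2 _ _ htb htc
    · exact h2 _ _ htc htd
  intro k hk
  apply Subtype.ext
  exact Subgroup.mem_centralizer_singleton_iff.1 (hle (Subgroup.mem_subgroupOf.1 hk))

/-! ### propagation of an equality through the diagram -/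

section run

variable {α : Type} [DecidableEq α] {edges : List (α × ℕ × α)} {extra : List (FreeGroup α)}

/-- `(y, x, z)`: `y` is adjacent to `x` and not adjacent to `z`, `x`, `z` are already known to be equal -/
def run (edges : List (α × ℕ × α)) : List α → List (α × α × α) → List α
  | S, [] => S
  | S, (y, x, z) :: l =>
    if x ∈ S ∧ z ∈ S ∧ x ∈ coxNodes edges ∧ y ∈ coxNodes edges ∧ z ∈ coxNodes edges ∧ coxLabel edges x y = 3 ∧
        coxLabel edges y z = 2 then run edges (y :: S) l
    else run edges S l

theorem run_spec (x₀ : α) (l : List (α × α × α)) : ∀ S : List α,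
    (∀ s ∈ S, (PresentedGroup.of s : CoxPresented α edges extra) = PresentedGroup.of x₀) →
    ∀ s ∈ run edges S l, (PresentedGroup.of s : CoxPresented α edges extra) = PresentedGroup.of x₀ := by
  induction l with
  | nil => intro S hS; exact hS
  | cons p l ih =>
    obtain ⟨y, x, z⟩ := p
    intro S hS
    unfold run
    split_ifs with h
    · obtain ⟨hx, hz, nx, ny, nz, h3, h2⟩ := h
      apply ih
      intro s hs
      rcases List.mem_cons.1 hs with rfl | hs
      · have h4 : (PresentedGroup.of x : CoxPresented α edges extra) = PresentedGroup.of z := by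
          rw [hS x hx, hS z hz]
        rw [← cox_step nx ny nz h3 h2 h4, hS x hx]
      · exact hS s hs
    · exact ih S hS

/-- if two nodes are equal then the group is commutative -/
theorem comm_of_eq {x₀ x₁ : α} (l : List (α × α × α)) (hl : ∀ x : α, x ∈ run edges [x₀, x₁] l)
    (h : (PresentedGroup.of x₁ : CoxPresented α edges extra) = PresentedGroup.of x₀)
    (g g' : CoxPresented α edges extra) : g * g' = g' * g := by
  refine comm_of_all_eq (x₀ := x₀) (fun x => run_spec x₀ l [x₀, x₁] ?_ x (hl x)) g g'
  intro s hs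
  simp only [List.mem_cons, List.not_mem_nil, or_false] at hs
  rcases hs with rfl | rfl
  · rfl
  · exact h

/-- a trivial node is equal to its neighbours -/
theorem eq_of_one {x y : α} (hx : x ∈ coxNodes edges) (hy : y ∈ coxNodes edges) (hxy : coxLabel edges x y = 3)
    (h : (PresentedGroup.of x : CoxPresented α edges extra) = 1) :
    (PresentedGroup.of y : CoxPresented α edges extra) = PresentedGroup.of x := by
  have h1 := cox_braid (extra := extra) hx hy hxy
  have h2 := cox_sq (extra := extra) hy
  rw [h] at h1 ⊢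
  rw [one_mul, mul_one, h2] at h1
  exact h1

end run

/-! ### the groups -/

/-- **`Fi22`** -/
theorem fi22 (hna : ¬ ∀ x y : Spor.Fi22, x * y = y * x) : NSC Spor.Fi22 := by
  refine nsc_of_path (t := PresentedGroup.of Fi22.Gen.a) (a := PresentedGroup.of Fi22.Gen.c)
    (b := PresentedGroup.of Fi22.Gen.d) (c := PresentedGroup.of Fi22.Gen.e) (d := PresentedGroup.of Fi22.Gen.f)
    (cox_A4 (by decide) (by decide) (by decide) (by decide) (by decide) (by decide) (by decide) (by decide)
      (by decide) (by decide)) ?_ ?_ (cox_sq (by decide)) (cox_comm (by decide) (by decide) (by decide))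
    (cox_comm (by decide) (by decide) (by decide)) (cox_comm (by decide) (by decide) (by decide))
    (cox_comm (by decide) (by decide) (by decide))
  · intro h
    exact hna (comm_of_eq (x₀ := Fi22.Gen.c) (x₁ := Fi22.Gen.d)
      [(.b, .c, .d), (.a, .b, .c), (.e, .d, .c), (.h, .d, .c), (.f, .e, .d), (.g, .f, .e), (.i, .h, .d)]
      (by intro x; cases x <;> decide) h.symm)
  · intro h
    have h2 := eq_of_one (x := Fi22.Gen.a) (y := Fi22.Gen.b) (by decide) (by decide) (by decide) h
    exact hna (comm_of_eq (x₀ := Fi22.Gen.a) (x₁ := Fi22.Gen.b)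
      [(.c, .b, .a), (.d, .c, .b), (.e, .d, .c), (.h, .d, .c), (.f, .e, .d), (.g, .f, .e), (.i, .h, .d)]
      (by intro x; cases x <;> decide) h2)

/-- **`Fi23`** -/
theorem fi23 (hna : ¬ ∀ x y : Spor.Fi23, x * y = y * x) : NSC Spor.Fi23 := by
  refine nsc_of_path (t := PresentedGroup.of Fi23.Gen.a) (a := PresentedGroup.of Fi23.Gen.c)
    (b := PresentedGroup.of Fi23.Gen.d) (c := PresentedGroup.of Fi23.Gen.e) (d := PresentedGroup.of Fi23.Gen.f)
    (cox_A4 (by decide) (by decide) (by decide) (by decide) (by decide) (by decide) (by decide) (by decide)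
      (by decide) (by decide)) ?_ ?_ (cox_sq (by decide)) (cox_comm (by decide) (by decide) (by decide))
    (cox_comm (by decide) (by decide) (by decide)) (cox_comm (by decide) (by decide) (by decide))
    (cox_comm (by decide) (by decide) (by decide))
  · intro h
    exact hna (comm_of_eq (x₀ := Fi23.Gen.c) (x₁ := Fi23.Gen.d)
      [(.b, .c, .d), (.a, .b, .c), (.e, .d, .c), (.h, .d, .c), (.f, .e, .d), (.g, .f, .e), (.j, .g, .f), (.i, .h, .d)]
      (by intro x; cases x <;> decide) h.symm)
  · intro h
    have h2 := eq_of_one (x := Fi23.Gen.a) (y := Fi23.Gen.b) (by decide) (by decide) (by decide) h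
    exact hna (comm_of_eq (x₀ := Fi23.Gen.a) (x₁ := Fi23.Gen.b)
      [(.c, .b, .a), (.d, .c, .b), (.e, .d, .c), (.h, .d, .c), (.f, .e, .d), (.g, .f, .e), (.j, .g, .f), (.i, .h, .d)]
      (by intro x; cases x <;> decide) h2)

/-- **`B`** -/
theorem baby (hna : ¬ ∀ x y : Spor.BabyMonster, x * y = y * x) : NSC Spor.BabyMonster := by
  refine nsc_of_path (t := PresentedGroup.of BabyMonster.Gen.t1) (a := PresentedGroup.of BabyMonster.Gen.t3)
    (b := PresentedGroup.of BabyMonster.Gen.t4) (c := PresentedGroup.of BabyMonster.Gen.t5)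
    (d := PresentedGroup.of BabyMonster.Gen.t6)
    (cox_A4 (by decide) (by decide) (by decide) (by decide) (by decide) (by decide) (by decide) (by decide)
      (by decide) (by decide)) ?_ ?_ (cox_sq (by decide)) (cox_comm (by decide) (by decide) (by decide))
    (cox_comm (by decide) (by decide) (by decide)) (cox_comm (by decide) (by decide) (by decide))
    (cox_comm (by decide) (by decide) (by decide))
  · intro h
    exact hna (comm_of_eq (x₀ := BabyMonster.Gen.t3) (x₁ := BabyMonster.Gen.t4)
      [(.t2, .t3, .t4), (.t1, .t2, .t3), (.t5, .t4, .t3), (.t6, .t5, .t4), (.t9, .t5, .t4), (.t7, .t6, .t5),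
        (.t8, .t7, .t6), (.t10, .t9, .t5), (.t11, .t10, .t9)]
      (by intro x; cases x <;> decide) h.symm)
  · intro h
    have h2 := eq_of_one (x := BabyMonster.Gen.t1) (y := BabyMonster.Gen.t2) (by decide) (by decide) (by decide) h
    exact hna (comm_of_eq (x₀ := BabyMonster.Gen.t1) (x₁ := BabyMonster.Gen.t2)
      [(.t3, .t2, .t1), (.t4, .t3, .t2), (.t5, .t4, .t3), (.t6, .t5, .t4), (.t9, .t5, .t4), (.t7, .t6, .t5),
        (.t8, .t7, .t6), (.t10, .t9, .t5), (.t11, .t10, .t9)]
      (by intro x; cases x <;> decide) h2)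

section comm

variable {α : Type} [DecidableEq α] {edges : List (α × ℕ × α)} {extra : List (FreeGroup α)}

/-- the product of two adjacent nodes is in the commutator subgroup -/
theorem mul_mem_commutator {x y : α} (hx : x ∈ coxNodes edges) (hy : y ∈ coxNodes edges)
    (hxy : coxLabel edges x y = 3) :
    (PresentedGroup.of x : CoxPresented α edges extra) * PresentedGroup.of y ∈ commutator (CoxPresented α edges extra) := by
  have h1 := cox_braid (extra := extra) hx hy hxy
  have h2 := cox_sq (extra := extra) hx
  have h3 := cox_sq (extra := extra) hy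
  set a : CoxPresented α edges extra := PresentedGroup.of x
  set b : CoxPresented α edges extra := PresentedGroup.of y
  rw [← Abelianization.ker_of, MonoidHom.mem_ker, map_mul]
  have h4 := congrArg (Abelianization.of (G := CoxPresented α edges extra)) h1
  simp only [map_mul] at h4
  have h5 := congrArg (Abelianization.of (G := CoxPresented α edges extra)) h2
  have h6 := congrArg (Abelianization.of (G := CoxPresented α edges extra)) h3
  simp only [map_mul, map_one] at h5 h6
  set A := Abelianization.of a
  set B := Abelianization.of b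
  have h7 : A = B := by
    have e1 : A * B * A = (A * A) * B := by rw [mul_assoc, mul_comm B A, ← mul_assoc]
    have e2 : B * A * B = (B * B) * A := by rw [mul_assoc, mul_comm A B, ← mul_assoc]
    rw [e1, e2, h5, h6, one_mul, one_mul] at h4
    exact h4.symm
  rw [h7, h6]

/-- a product of two nodes joined by a path of length two -/
theorem mul_mem_commutator_two {x y z : α} (hx : x ∈ coxNodes edges) (hy : y ∈ coxNodes edges)
    (hz : z ∈ coxNodes edges) (hxy : coxLabel edges x y = 3) (hyz : coxLabel edges y z = 3) :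
    (PresentedGroup.of x : CoxPresented α edges extra) * PresentedGroup.of z ∈ commutator (CoxPresented α edges extra) := by
  have h1 := mul_mem (mul_mem_commutator (extra := extra) hx hy hxy) (mul_mem_commutator (extra := extra) hy hz hyz)
  have h2 := cox_sq (extra := extra) hy
  have h3 : (PresentedGroup.of x : CoxPresented α edges extra) * PresentedGroup.of y *
      (PresentedGroup.of y * PresentedGroup.of z) = PresentedGroup.of x * PresentedGroup.of z := by
    rw [mul_assoc, ← mul_assoc (PresentedGroup.of y), h2, one_mul]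
  rwa [h3] at h1

end comm

theorem prod_sq {G : Type*} [Group G] {x y : G} (hx : x * x = 1) (hy : y * y = 1) (hxy : x * y = y * x) :
    (x * y) * (x * y) = 1 := by
  calc (x * y) * (x * y) = x * (y * x) * y := by group
    _ = (x * x) * (y * y) := by rw [← hxy]; group
    _ = 1 := by rw [hx, hy, mul_one]

theorem prod_comm {G : Type*} [Group G] {x y z : G} (hx : x * z = z * x) (hy : y * z = z * y) :
    (x * y) * z = z * (x * y) := by
  rw [mul_assoc, hy, ← mul_assoc, hx, mul_assoc]

theorem eq_of_mul_eq_one {G : Type*} [Group G] {x y : G} (hy : y * y = 1) (h : x * y = 1) : x = y := by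
  calc x = x * (y * y) := by rw [hy, mul_one]
    _ = (x * y) * y := by group
    _ = y := by rw [h, one_mul]

/-- **`Fi24'`** -/
theorem fi24 (hna : ¬ ∀ x y : Spor.Fi24', x * y = y * x) : NSC Spor.Fi24' := by
  have hna' : ¬ ∀ x y : Spor.Fi24, x * y = y * x := fun h => hna (fun x y => Subtype.ext (h x y))
  have hla : (PresentedGroup.of Fi24.Gen.l : Spor.Fi24) * PresentedGroup.of Fi24.Gen.a =
      PresentedGroup.of Fi24.Gen.a * PresentedGroup.of Fi24.Gen.l := cox_comm (by decide) (by decide) (by decide)
  refine nsc_of_path_sub (t := PresentedGroup.of Fi24.Gen.l * PresentedGroup.of Fi24.Gen.a)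
    (a := PresentedGroup.of Fi24.Gen.c)
    (b := PresentedGroup.of Fi24.Gen.d) (c := PresentedGroup.of Fi24.Gen.e) (d := PresentedGroup.of Fi24.Gen.f)
    (cox_A4 (by decide) (by decide) (by decide) (by decide) (by decide) (by decide) (by decide) (by decide)
      (by decide) (by decide)) ?_ ?_ (prod_sq (cox_sq (by decide)) (cox_sq (by decide)) hla)
    (prod_comm (cox_comm (by decide) (by decide) (by decide)) (cox_comm (by decide) (by decide) (by decide)))
    (prod_comm (cox_comm (by decide) (by decide) (by decide)) (cox_comm (by decide) (by decide) (by decide)))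
    (prod_comm (cox_comm (by decide) (by decide) (by decide)) (cox_comm (by decide) (by decide) (by decide)))
    (prod_comm (cox_comm (by decide) (by decide) (by decide)) (cox_comm (by decide) (by decide) (by decide)))
    (mul_mem_commutator_two (y := Fi24.Gen.k) (by decide) (by decide) (by decide) (by decide) (by decide))
    (mul_mem_commutator (by decide) (by decide) (by decide)) (mul_mem_commutator (by decide) (by decide) (by decide))
    (mul_mem_commutator (by decide) (by decide) (by decide))
  · intro h
    exact hna' (comm_of_eq (x₀ := Fi24.Gen.c) (x₁ := Fi24.Gen.d)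
      [(.b, .c, .d), (.a, .b, .c), (.k, .a, .b), (.l, .k, .a), (.e, .d, .c), (.h, .d, .c), (.f, .e, .d), (.g, .f, .e),
        (.j, .g, .f), (.i, .h, .d)]
      (by intro x; cases x <;> decide) h.symm)
  · intro h
    have h1 : (PresentedGroup.of Fi24.Gen.l : Spor.Fi24) = PresentedGroup.of Fi24.Gen.a :=
      eq_of_mul_eq_one (cox_sq (by decide)) h
    exact hna' (comm_of_eq (x₀ := Fi24.Gen.l) (x₁ := Fi24.Gen.a)
      [(.b, .a, .l), (.k, .a, .b), (.c, .b, .a), (.d, .c, .b), (.e, .d, .c), (.h, .d, .c), (.f, .e, .d), (.g, .f, .e),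
        (.j, .g, .f), (.i, .h, .d)]
      (by intro x; cases x <;> decide) h1.symm)

/-- **`M`** -/
theorem monster (hna : ¬ ∀ x y : Spor.Monster, x * y = y * x) : NSC Spor.Monster := by
  have hna' : ¬ ∀ x y : Spor.Bimonster, x * y = y * x := fun h => hna (fun x y => Subtype.ext (h x y))
  have h24 : (PresentedGroup.of Bimonster.Gen.c2 : Spor.Bimonster) * PresentedGroup.of Bimonster.Gen.e2 =
      PresentedGroup.of Bimonster.Gen.e2 * PresentedGroup.of Bimonster.Gen.c2 :=
    cox_comm (by decide) (by decide) (by decide)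
  have hcen : ∀ {x y : Spor.Bimonster}, x * PresentedGroup.of Bimonster.Gen.a = PresentedGroup.of Bimonster.Gen.a * x →
      y * PresentedGroup.of Bimonster.Gen.a = PresentedGroup.of Bimonster.Gen.a * y → x * y ∈
      commutator Spor.Bimonster → x * y ∈ (Subgroup.centralizer {(PresentedGroup.of Bimonster.Gen.a : Spor.Bimonster)} ⊓
        commutator Spor.Bimonster : Subgroup Spor.Bimonster) := fun hx hy h =>
    ⟨Subgroup.mem_centralizer_singleton_iff.2 (prod_comm hx hy), h⟩
  refine nsc_of_path_sub (t := PresentedGroup.of Bimonster.Gen.c2 * PresentedGroup.of Bimonster.Gen.e2)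
    (a := PresentedGroup.of Bimonster.Gen.c1)
    (b := PresentedGroup.of Bimonster.Gen.d1) (c := PresentedGroup.of Bimonster.Gen.e1)
    (d := PresentedGroup.of Bimonster.Gen.f1)
    (cox_A4 (by decide) (by decide) (by decide) (by decide) (by decide) (by decide) (by decide) (by decide)
      (by decide) (by decide)) ?_ ?_ (prod_sq (cox_sq (by decide)) (cox_sq (by decide)) h24)
    (prod_comm (cox_comm (by decide) (by decide) (by decide)) (cox_comm (by decide) (by decide) (by decide)))
    (prod_comm (cox_comm (by decide) (by decide) (by decide)) (cox_comm (by decide) (by decide) (by decide)))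
    (prod_comm (cox_comm (by decide) (by decide) (by decide)) (cox_comm (by decide) (by decide) (by decide)))
    (prod_comm (cox_comm (by decide) (by decide) (by decide)) (cox_comm (by decide) (by decide) (by decide)))
    (hcen (cox_comm (by decide) (by decide) (by decide)) (cox_comm (by decide) (by decide) (by decide))
      (mul_mem_commutator_two (y := Bimonster.Gen.d2) (by decide) (by decide) (by decide) (by decide) (by decide)))
    (hcen (cox_comm (by decide) (by decide) (by decide)) (cox_comm (by decide) (by decide) (by decide))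
      (mul_mem_commutator (by decide) (by decide) (by decide)))
    (hcen (cox_comm (by decide) (by decide) (by decide)) (cox_comm (by decide) (by decide) (by decide))
      (mul_mem_commutator (by decide) (by decide) (by decide)))
    (hcen (cox_comm (by decide) (by decide) (by decide)) (cox_comm (by decide) (by decide) (by decide))
      (mul_mem_commutator (by decide) (by decide) (by decide)))
  · intro h
    exact hna' (comm_of_eq (x₀ := Bimonster.Gen.c1) (x₁ := Bimonster.Gen.d1)
      [(.e1, .d1, .c1), (.f1, .e1, .d1), (.b1, .c1, .d1), (.a, .b1, .c1), (.b2, .a, .b1), (.b3, .a, .b1),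
        (.c2, .b2, .a), (.d2, .c2, .b2), (.e2, .d2, .c2), (.f2, .e2, .d2), (.c3, .b3, .a), (.d3, .c3, .b3),
        (.e3, .d3, .c3), (.f3, .e3, .d3)]
      (by intro x; cases x <;> decide) h.symm)
  · intro h
    have h1 : (PresentedGroup.of Bimonster.Gen.c2 : Spor.Bimonster) = PresentedGroup.of Bimonster.Gen.e2 :=
      eq_of_mul_eq_one (cox_sq (by decide)) h
    exact hna' (comm_of_eq (x₀ := Bimonster.Gen.c2) (x₁ := Bimonster.Gen.e2)
      [(.f2, .e2, .c2), (.d2, .e2, .f2), (.b2, .c2, .d2), (.a, .b2, .c2), (.b1, .a, .b2), (.b3, .a, .b2),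
        (.c1, .b1, .a), (.d1, .c1, .b1), (.e1, .d1, .c1), (.f1, .e1, .d1), (.c3, .b3, .a), (.d3, .c3, .b3),
        (.e3, .d3, .c3), (.f3, .e3, .d3)]
      (by intro x; cases x <;> decide) h1.symm)

end Cfsg.Agent.H517.SporCox

private theorem dce_78e9acdbaa13 : _root_.True := by
  try have : _root_.True := by simp only [_root_.Cfsg.Spor.coxLabel.eq_1]
  try have : _root_.True := by simp only [_root_.Cfsg.Agent.H517.SporCox.run.eq_def]
  try have : _root_.True := by simp only [_root_.Cfsg.Spor.coxLabel.congr_simp]
  exact _root_.True.intro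
end

-- part: H210/Loc/Defs
section
set_option linter.all false
open scoped Cfsg.Agent.FastGrp

/-!
# Nonsolvable `p`-local subgroups (helper210, for S2771)

* `NL p K` : some nontrivial `p`-subgroup of `K` has a nonsolvable normalizer.
* `NL.of_le`, `NL.of_cent`, `NL.of_hom`, `NL.of_proj`, `NL.of_injective`, `NL.of_equiv`, `NL.of_surjective`, `NL.of_section`
  (inheritance from ANY section of a finite group), `NL.prod`, `NL.of_triangle`, `NL.of_A4`, `nl_alt8`, `nl_alt`.
* `w3 : SL(2, F)` has order three in every characteristic: `w3_ne`, `w3_cube`; `NL.of_sl` : a homomorphism from `SL(2, F)` that is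
  nontrivial on `w3` and whose image commutes with a nonsolvable subgroup.
* `not_rank_of_card`, `not_rank_of_nonab`, `not_rank_of_cent` : criteria for `¬ PRankAtLeast p 3 K`.
-/

set_option autoImplicit false

namespace Cfsg.Agent.H210.Loc

open Subgroup Matrix
open Cfsg.Agent.H517 (isSolvable_mono)

universe u v

/-- Some nontrivial `p`-subgroup of `K` has a nonsolvable normalizer. -/
def NL (p : ℕ) (K : Type*) [Group K] : Prop :=
  ∃ R : Subgroup K, IsPGroup p ↥R ∧ R ≠ ⊥ ∧ ¬ Group.IsSolvable ↥(Subgroup.normalizer (R : Set K))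

theorem NL.of_le {p : ℕ} {K : Type*} [Group K] {R N : Subgroup K} (hR : IsPGroup p ↥R) (h1 : R ≠ ⊥)
    (hN : ¬ Group.IsSolvable ↥N) (hle : N ≤ Subgroup.normalizer (R : Set K)) : NL p K :=
  ⟨R, hR, h1, fun h => hN (isSolvable_mono hle h)⟩

theorem isPGroup_zpowers {p : ℕ} {K : Type*} [Group K] {x : K} {k : ℕ} (hx : x ^ p ^ k = 1) :
    IsPGroup p ↥(zpowers x) := by
  intro y
  obtain ⟨y, hy⟩ := y
  obtain ⟨n, rfl⟩ := mem_zpowers_iff.1 hy
  refine ⟨k, Subtype.ext ?_⟩
  change (x ^ n) ^ p ^ k = 1
  rw [← _root_.zpow_natCast, ← _root_.zpow_mul, mul_comm, _root_.zpow_mul, _root_.zpow_natCast, hx, _root_.one_zpow]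

theorem centralizer_le_normalizer_zpowers {K : Type*} [Group K] (x : K) :
    centralizer ({x} : Set K) ≤ Subgroup.normalizer ((zpowers x : Subgroup K) : Set K) := by
  intro g hg
  rw [mem_centralizer_singleton_iff] at hg
  rw [mem_normalizer_iff]
  intro y
  have hc : ∀ n : ℤ, g * x ^ n * g⁻¹ = x ^ n := by
    intro n
    have : Commute g (x ^ n) := (show Commute g x from hg).zpow_right n
    rw [this.eq, mul_inv_cancel_right]
  constructor
  · intro hy
    obtain ⟨n, rfl⟩ := mem_zpowers_iff.1 hy
    rw [hc]
    exact hy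
  · intro hy
    obtain ⟨n, hn⟩ := mem_zpowers_iff.1 hy
    have : y = x ^ n := by
      have h2 : g * y * g⁻¹ = g * x ^ n * g⁻¹ := by rw [hc n, hn]
      exact mul_left_cancel (mul_right_cancel h2)
    rw [this]
    exact zpow_mem (mem_zpowers x) n

/-- the centralizer of an element of `p`-power order is not solvable -/
theorem NL.of_cent {p : ℕ} {K : Type*} [Group K] {x : K} (h1 : x ≠ 1) {k : ℕ} (hx : x ^ p ^ k = 1) {N : Subgroup K}
    (hN : ¬ Group.IsSolvable ↥N) (hc : ∀ y ∈ N, y * x = x * y) : NL p K := by
  refine NL.of_le (R := zpowers x) (isPGroup_zpowers hx) (by rwa [Ne, zpowers_eq_bot]) hN ?_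
  refine le_trans ?_ (centralizer_le_normalizer_zpowers x)
  intro y hy
  rw [mem_centralizer_singleton_iff]
  exact hc y hy

theorem not_isSolvable_range {Q G : Type*} [Group Q] [Group G] (f : Q →* G) (hQ : ¬ Group.IsSolvable Q)
    (hk : Group.IsSolvable f.ker) : ¬ Group.IsSolvable f.range := by
  intro h
  apply hQ
  exact Group.isSolvable_of_ker_le_range (f.ker.subtype) f.rangeRestrict (by
    intro x hx
    rw [MonoidHom.ker_rangeRestrict] at hx
    exact ⟨⟨x, hx⟩, rfl⟩)

/-- a homomorphism with solvable kernel from a nonsolvable group into the centralizer of an element of order `p` -/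
theorem NL.of_hom {p : ℕ} {K Q : Type*} [Group K] [Group Q] {x : K} (h1 : x ≠ 1) (hx : x ^ p = 1) (f : Q →* K)
    (hQ : ¬ Group.IsSolvable Q) (hk : Group.IsSolvable f.ker) (hc : ∀ y, f y * x = x * f y) : NL p K := by
  refine NL.of_cent (k := 1) h1 (by rwa [pow_one]) (not_isSolvable_range f hQ hk) ?_
  rintro _ ⟨y, rfl⟩
  exact hc y

theorem NL.of_injective {p : ℕ} {K H : Type*} [Group K] [Group H] (f : H →* K) (hf : Function.Injective f)
    (h : NL p H) : NL p K := by
  obtain ⟨R, hR, h1, h2⟩ := h
  refine NL.of_le (R := R.map f) (hR.of_equiv (R.equivMapOfInjective f hf)) ?_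
    (N := (Subgroup.normalizer (R : Set H)).map f) ?_ ?_
  · rwa [Ne, Subgroup.map_eq_bot_iff_of_injective _ hf]
  · intro h3
    exact h2 (Group.isSolvable_of_isSolvable_injective
      (f := ((Subgroup.normalizer (R : Set H)).equivMapOfInjective f hf).toMonoidHom) (MulEquiv.injective _))
  · rintro _ ⟨n, hn, rfl⟩
    rw [SetLike.mem_coe, mem_normalizer_iff] at hn
    rw [mem_normalizer_iff]
    intro y
    constructor
    · rintro ⟨w, hw, rfl⟩
      exact ⟨n * w * n⁻¹, (hn w).1 hw, by simp only [_root_.map_mul, _root_.map_inv]⟩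
    · rintro ⟨w, hw, hwy⟩
      refine ⟨n⁻¹ * w * n, ?_, ?_⟩
      · rw [SetLike.mem_coe, hn]
        have : n * (n⁻¹ * w * n) * n⁻¹ = w := by group
        rwa [this]
      · rw [map_mul, map_mul, hwy, map_inv]; group

theorem NL.of_equiv {p : ℕ} {K H : Type*} [Group K] [Group H] (e : H ≃* K) (h : NL p H) : NL p K :=
  h.of_injective e.toMonoidHom e.injective

theorem NL.of_subgroup {p : ℕ} {K : Type*} [Group K] {H : Subgroup K} (h : NL p H) : NL p K :=
  h.of_injective H.subtype H.subtype_injective

/-- `X → K` with solvable kernel, a nonsolvable subgroup commuting with `z ∉ ker`, `z ^ p ∈ ker`. -/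
theorem NL.of_proj {p : ℕ} {Q X K : Type*} [Group Q] [Group X] [Group K] (π : X →* K) (hs : Group.IsSolvable π.ker)
    (hQ : ¬ Group.IsSolvable Q) (f : Q →* X) (hf : Group.IsSolvable f.ker) (z : X)
    (hz : π z ≠ 1) (hzp : π z ^ p = 1) (hcomm : ∀ x, f x * z = z * f x) : NL p K := by
  refine NL.of_cent (k := 1) (x := π z) hz (by rwa [pow_one]) (N := f.range.map π) ?_ ?_
  · intro h
    have h1 := not_isSolvable_range f hQ hf
    apply h1
    have : Group.IsSolvable (π.comp f.range.subtype).range := by
      rw [MonoidHom.range_comp, Subgroup.range_subtype]; exact h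
    by_contra h3
    refine not_isSolvable_range (π.comp f.range.subtype) h3 ?_ this
    have hinj : Function.Injective (((f.range.subtype).comp (π.comp f.range.subtype).ker.subtype).codRestrict π.ker
        (fun x => x.2)) := by
      intro a b hab
      apply Subtype.ext
      apply Subtype.ext
      have h4 := congrArg (fun u : π.ker => (u : X)) hab
      exact h4
    exact Group.isSolvable_of_isSolvable_injective hinj
  · rintro _ ⟨_, ⟨x, rfl⟩, rfl⟩
    rw [← map_mul, hcomm, map_mul]

/-- inheritance from a quotient of a finite group: `N_H(P)` maps onto `N_K(R)` if `P` is a Sylow subgroup of the preimage of `R` -/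
theorem NL.of_surjective {p : ℕ} [Fact p.Prime] {H K : Type*} [Group H] [Finite H] [Group K] (π : H →* K)
    (hπ : Function.Surjective π) (h : NL p K) : NL p H := by
  obtain ⟨R, hR, h1, h2⟩ := h
  -- the preimage
  set X := R.comap π with hX
  obtain ⟨P⟩ : Nonempty (Sylow p X) := inferInstance
  set N := Subgroup.normalizer (X : Set H) with hN
  have hXN : X ≤ N := le_normalizer
  -- `P` as a subgroup of `H`
  set P' : Subgroup H := (P : Subgroup X).map X.subtype with hP'
  have hP'p : IsPGroup p P' := P.2.map _
  -- `X = P' ker`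
  have hker : π.ker ≤ X := by
    intro x hx
    rw [hX, mem_comap, MonoidHom.mem_ker.1 hx]
    exact one_mem _
  have hmap : P'.map π = R := by
    apply le_antisymm
    · rintro _ ⟨_, ⟨x, -, rfl⟩, rfl⟩
      exact x.2
    · -- index argument
      have hfin : Finite K := Finite.of_surjective π hπ
      have hRX : X.map π = R := Subgroup.map_comap_eq_self_of_surjective hπ R
      -- the index of `P'.map π` in `R` divides the index of `P` in `X` and is a power of `p`
      have hle : P'.map π ≤ R := by
        rintro _ ⟨_, ⟨x, -, rfl⟩, rfl⟩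
        exact x.2
      have hdiv : (P'.map π).relIndex R ∣ (P : Subgroup X).index := by
        have e1 : P'.relIndex X = (P : Subgroup X).index := by
          rw [hP', Subgroup.relIndex, Subgroup.subgroupOf, Subgroup.comap_map_eq_self_of_injective X.subtype_injective]
        rw [← e1, ← hRX]
        rw [← Subgroup.relIndex_comap]
        exact Subgroup.relIndex_dvd_of_le_left X (Subgroup.le_comap_map π P')
      have hp : ∃ k, (P'.map π).relIndex R = p ^ k := by
        have : IsPGroup p R := hR
        rw [Subgroup.relIndex]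
        exact this.index _
      obtain ⟨k, hk'⟩ := hp
      have hnd : ¬ p ∣ (P : Subgroup X).index := P.not_dvd_index
      rcases Nat.eq_zero_or_pos k with h0 | h0
      · rw [h0, pow_zero, Subgroup.relIndex_eq_one] at hk'
        exact hk'
      · exfalso
        apply hnd
        refine dvd_trans ?_ hdiv
        rw [hk']
        exact dvd_pow_self p h0.ne'
  refine ⟨P', hP'p, ?_, ?_⟩
  · intro h3
    apply h1
    rw [← hmap, h3, Subgroup.map_bot]
  · intro hsol
    -- the normaliser of `P'` maps onto the normaliser of `R`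
    apply h2
    have hsurj : ∀ y ∈ Subgroup.normalizer (R : Set K), ∃ n ∈ Subgroup.normalizer (P' : Set H), π n = y := by
      intro y hy
      obtain ⟨g, rfl⟩ := hπ y
      -- `g` normalises `X`
      have hgX : ∀ x, x ∈ X ↔ g * x * g⁻¹ ∈ X := by
        intro x
        rw [mem_normalizer_iff] at hy
        rw [hX, mem_comap, mem_comap, hy]
        simp only [_root_.map_mul, _root_.map_inv]
      -- conjugate of `P` by `g`
      let c : X ≃* X :=
        { toFun := fun x => ⟨g * x * g⁻¹, (hgX x).1 x.2⟩
          invFun := fun x => ⟨g⁻¹ * x * g, by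
            rw [hgX]
            have : g * (g⁻¹ * (x : H) * g) * g⁻¹ = x := by group
            rw [this]; exact x.2⟩
          left_inv := fun x => Subtype.ext (by simp [mul_assoc])
          right_inv := fun x => Subtype.ext (by simp [mul_assoc])
          map_mul' := fun x y => Subtype.ext (by simp only [mul_assoc, _root_.Subgroup.coe_mul, _root_.MulMemClass.mk_mul_mk, _root_.inv_mul_cancel_left]) }
      have hPc : ∃ Q : Sylow p X, (Q : Subgroup X) = (P : Subgroup X).map c.toMonoidHom := by
        refine ⟨P.mapSurjective (f := c.toMonoidHom) c.surjective, ?_⟩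
        rfl
      obtain ⟨Q, hQ⟩ := hPc
      obtain ⟨x, hx⟩ := MulAction.exists_smul_eq X Q P
      -- `x g` normalises `P'`
      have hxg : (x : H) * g ∈ Subgroup.normalizer (P' : Set H) := by
        have e1 : P'.map (MulAut.conj ((x : H) * g)).toMonoidHom = P' := by
          have e2 : (P : Subgroup X) = (Q : Subgroup X).map (MulAut.conj x).toMonoidHom := by
            have := congrArg (fun S : Sylow p X => (S : Subgroup X)) hx
            simp only [Sylow.coe_subgroup_smul] at this
            rw [← this]; rfl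
          have e3 : P' = ((Q : Subgroup X).map (MulAut.conj x).toMonoidHom).map X.subtype := by rw [hP', ← e2]
          conv_rhs => rw [e3, hQ]
          rw [hP']
          ext z
          simp only [Subgroup.mem_map]
          constructor
          · rintro ⟨_, ⟨w, hw, rfl⟩, rfl⟩
            refine ⟨x * c w * x⁻¹, ⟨c w, ⟨w, hw, rfl⟩, rfl⟩, ?_⟩
            simp [c, mul_assoc]
          · rintro ⟨_, ⟨_, ⟨w, hw, rfl⟩, rfl⟩, rfl⟩
            refine ⟨w, ⟨w, hw, rfl⟩, ?_⟩
            simp [c, mul_assoc]
        rw [mem_normalizer_iff]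
        intro h
        constructor
        · intro hh
          rw [← e1]
          exact ⟨h, hh, rfl⟩
        · intro hh
          rw [← e1] at hh
          obtain ⟨w, hw, hwh⟩ := hh
          have : w = h := by
            have h5 : (MulAut.conj ((x : H) * g)) w = (MulAut.conj ((x : H) * g)) h := hwh
            exact (MulAut.conj ((x : H) * g)).injective h5
          rwa [← this]
      -- `π x ∈ R = π P'`
      have hxR : π (x : H) ∈ P'.map π := by
        rw [hmap]; exact x.2
      obtain ⟨w, hw, hwx⟩ := hxR
      refine ⟨w⁻¹ * ((x : H) * g), mul_mem (inv_mem (le_normalizer hw)) hxg, ?_⟩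
      rw [map_mul, map_mul, map_inv, hwx, inv_mul_cancel_left]
    have hle : Subgroup.normalizer (R : Set K) ≤ (Subgroup.normalizer (P' : Set H)).map π := by
      intro y hy
      obtain ⟨n, hn, rfl⟩ := hsurj y hy
      exact ⟨n, hn, rfl⟩
    refine isSolvable_mono hle ?_
    exact Group.isSolvable_of_surjective (f := π.subgroupMap (Subgroup.normalizer (P' : Set H)))
      (π.subgroupMap_surjective _)

/-- inheritance from a section: a subgroup of `G` mapping onto `K` -/
theorem NL.of_section {p : ℕ} [Fact p.Prime] {G H K : Type*} [Group G] [Group H] [Finite H] [Group K] (f : H →* G)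
    (hf : Function.Injective f) (π : H →* K) (hπ : Function.Surjective π) (h : NL p K) : NL p G :=
  (h.of_surjective π hπ).of_injective f hf

/-- `A × B`, `p ∣ |A|`, `B` not solvable -/
theorem NL.prod {p : ℕ} {A B : Type*} [Group A] [Group B] {a : A} (h1 : a ≠ 1) (ha : a ^ p = 1)
    (hB : ¬ Group.IsSolvable B) : NL p (A × B) := by
  refine NL.of_hom (x := (a, (1 : B))) (fun h => h1 (congrArg Prod.fst h)) (by ext <;> simp [ha]) (MonoidHom.inr A B)
    hB ?_ ?_
  · have : (MonoidHom.inr A B).ker = ⊥ := by
      rw [MonoidHom.ker_eq_bot_iff]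
      intro x y h
      exact congrArg Prod.snd h
    rw [this]
    infer_instance
  · intro y
    ext <;> simp

/-- an element of order `p` commuting with a `(l, m, n)`-triangle group -/
theorem NL.of_triangle {p : ℕ} {G : Type*} [Group G] {t a b : G} (l m n : ℕ) (h1 : t ≠ 1) (h2 : t ^ p = 1)
    (hta : a * t = t * a) (htb : b * t = t * b) (ha : a ^ l = 1) (hb : b ^ m = 1)
    (hab : (a * b) ^ n = 1) (hpq : Nat.Coprime l m) (hpr : Nat.Coprime l n) (hqr : Nat.Coprime m n)
    (hab1 : a ≠ 1 ∨ b ≠ 1) : NL p G := by
  refine NL.of_cent (k := 1) h1 (by rwa [pow_one]) (H517.not_isSolvable_triangle ha hb hab hpq hpr hqr hab1) ?_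
  have hle : _root_.Subgroup.closure ({a, b} : Set G) ≤ Subgroup.centralizer ({t} : Set G) := by
    rw [closure_le]
    rintro x (rfl | rfl)
    · exact Subgroup.mem_centralizer_singleton_iff.2 hta
    · exact Subgroup.mem_centralizer_singleton_iff.2 htb
  intro k hk
  exact Subgroup.mem_centralizer_singleton_iff.1 (hle hk)

/-- an element of order `p` commuting with a nontrivial Coxeter group of type `A₄` -/
theorem NL.of_A4 {p : ℕ} {G : Type*} [Group G] {t a b c d : G} (h1 : t ≠ 1) (h2 : t ^ p = 1) (h : H517.A4 a b c d)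
    (hab : a ≠ b) (ha : a * t = t * a) (hb : b * t = t * b) (hc : c * t = t * c) (hd : d * t = t * d) : NL p G := by
  refine NL.of_cent (k := 1) h1 (by rwa [pow_one]) (h.not_isSolvable hab) ?_
  have key : ∀ x y : G, x * t = t * x → y * t = t * y → x * y * t = t * (x * y) := by
    intro x y hx hy
    rw [mul_assoc, hy, ← mul_assoc, hx, mul_assoc]
  have hle : _root_.Subgroup.closure ({a * b, b * c, c * d} : Set G) ≤ Subgroup.centralizer ({t} : Set G) := by
    rw [closure_le]
    rintro x (rfl | rfl | rfl)
    · exact Subgroup.mem_centralizer_singleton_iff.2 (key _ _ ha hb)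
    · exact Subgroup.mem_centralizer_singleton_iff.2 (key _ _ hb hc)
    · exact Subgroup.mem_centralizer_singleton_iff.2 (key _ _ hc hd)
  intro k hk
  exact Subgroup.mem_centralizer_singleton_iff.1 (hle hk)

section alt

open Equiv

theorem nl_alt8 : NL 3 (alternatingGroup (Fin 8)) := by
  let t : alternatingGroup (Fin 8) := ⟨swap 5 6 * swap 6 7, by rw [Equiv.Perm.mem_alternatingGroup]; decide⟩
  let a : alternatingGroup (Fin 8) := ⟨_root_.Equiv.swap 0 1 * swap 2 3, by rw [Equiv.Perm.mem_alternatingGroup]; decide⟩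
  let b : alternatingGroup (Fin 8) := ⟨_root_.Equiv.swap 0 2 * swap 2 4, by rw [Equiv.Perm.mem_alternatingGroup]; decide⟩
  refine NL.of_triangle (t := t) (a := a) (b := b) 2 3 5 (by decide) (by decide) (by decide) (by decide) (by decide)
    (by decide) (by decide) (by norm_num) (by norm_num) (by norm_num) (by decide)

theorem nl_alt {n : ℕ} (hn : 8 ≤ n) : NL 3 (alternatingGroup (Fin n)) :=
  nl_alt8.of_injective (H517.Alt.emb hn) (H517.Alt.emb_injective hn)

end alt

section sl

variable (F : Type*) [CommRing F]

/-- an element of order three of `SL(2, F)` -/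
def w3 : _root_.Matrix.SpecialLinearGroup (Fin 2) F := ⟨!![0, 1; -1, -1], by simp [det_fin_two]⟩

theorem w3_cube : w3 F ^ 3 = 1 := by
  apply Subtype.ext
  rw [pow_succ, pow_two]
  change (!![0, 1; -1, -1] * !![0, 1; -1, -1] * !![0, 1; -1, -1] : Matrix (Fin 2) (Fin 2) F) = 1
  ext i j
  (revert i j; simp only [Matrix.mul_apply, Fin.sum_univ_two, _root_.Fin.forall_fin_succ, _root_.Matrix.cons_mul, _root_.Nat.succ_eq_add_one, Nat.reduceAdd, _root_.Matrix.vecMul_cons, _root_.Matrix.head_cons, _root_.zero_smul, _root_.Matrix.tail_cons, _root_.one_smul, _root_.Matrix.empty_vecMul, _root_.add_zero, _root_.zero_add, _root_.neg_smul, _root_.Matrix.neg_cons, _root_.neg_zero, _root_.Matrix.neg_empty, _root_.neg_neg, _root_.Matrix.add_cons, _root_.neg_add_cancel, _root_.Matrix.empty_add_empty, _root_.Matrix.empty_mul, _root_.Equiv.symm_apply_apply, _root_.Matrix.of_apply, _root_.Matrix.cons_val', _root_.Matrix.cons_val_fin_one, Fin.isValue, _root_.Matrix.cons_val_zero, _root_.Matrix.cons_val_one, _root_.MulZeroClass.mul_zero, _root_.mul_neg,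 _root_.mul_one, _root_.Matrix.cons_val_succ, _root_.IsEmpty.forall_iff, _root_.and_true, _root_.Matrix.one_apply_eq, _root_.Fin.succ_zero_eq_one, _root_.ne_eq, _root_.zero_ne_one, _root_.not_false_eq_true, _root_.Matrix.one_apply_ne, _root_.and_self, _root_.Fin.succ_ne_zero, _root_.true_and])

theorem w3_ne [Nontrivial F] : w3 F ≠ 1 := by
  intro h
  have := congrArg (fun A : _root_.Matrix.SpecialLinearGroup (Fin 2) F => (A : Matrix (Fin 2) (Fin 2) F) 0 1) h
  simp only [w3, _root_.Fin.isValue, _root_.Matrix.of_apply, _root_.Matrix.cons_val', _root_.Matrix.cons_val_one, _root_.Matrix.cons_val_fin_one, _root_.Matrix.cons_val_zero, _root_.Matrix.SpecialLinearGroup.coe_one, _root_.ne_eq, _root_.zero_ne_one, _root_.not_false_eq_true, _root_.Matrix.one_apply_ne, _root_.one_ne_zero] at this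

end sl

theorem not_rank_of_card {p : ℕ} [hp : Fact p.Prime] {K : Type*} [Group K] [Finite K] (h : ¬ p ^ 3 ∣ Nat.card K) :
    ¬ Cfsg.PRankAtLeast p 3 K := by
  rintro ⟨A, -, h2, h3⟩
  have hA : IsPGroup p A := fun a => ⟨1, Subtype.ext (by simpa only [_root_.pow_one, _root_.SubmonoidClass.coe_pow, _root_.OneMemClass.coe_one] using h2 a a.2)⟩
  obtain ⟨n, hn⟩ := IsPGroup.iff_card.1 hA
  apply h
  rw [hn] at h3
  have h4 : 3 ≤ n := (Nat.pow_le_pow_iff_right hp.out.one_lt).1 h3
  exact ((pow_dvd_pow p h4).trans (hn ▸ dvd_rfl)).trans (card_subgroup_dvd_card A)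

theorem not_rank_of_nonab {p : ℕ} [hp : Fact p.Prime] {K : Type*} [Group K] [Finite K] (h : ¬ p ^ 4 ∣ Nat.card K)
    (P : Subgroup K) (hP : Nat.card P = p ^ 3) {a b : K} (ha : a ∈ P) (hb : b ∈ P) (hab : a * b ≠ b * a) :
    ¬ Cfsg.PRankAtLeast p 3 K := by
  rintro ⟨A, h1, h2, h3⟩
  have hA : IsPGroup p A := fun a => ⟨1, Subtype.ext (by simpa only [_root_.pow_one, _root_.SubmonoidClass.coe_pow, _root_.OneMemClass.coe_one] using h2 a a.2)⟩
  obtain ⟨n, hn⟩ := IsPGroup.iff_card.1 hA
  rw [hn] at h3
  have h4 : 3 ≤ n := (Nat.pow_le_pow_iff_right hp.out.one_lt).1 h3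
  have h5 : n = 3 := by
    refine le_antisymm ?_ h4
    by_contra h6
    apply h
    exact ((pow_dvd_pow p (by omega : 4 ≤ n)).trans (hn ▸ dvd_rfl)).trans (card_subgroup_dvd_card A)
  subst h5
  -- both are Sylow
  obtain ⟨S, hS⟩ := hA.exists_le_sylow
  obtain ⟨T, hT⟩ := (IsPGroup.of_card hP).exists_le_sylow
  have hcS : Nat.card S = p ^ 3 := by
    obtain ⟨m, hm⟩ := IsPGroup.iff_card.1 S.2
    have : m ≤ 3 := by
      by_contra h6
      apply h
      exact ((pow_dvd_pow p (by omega : 4 ≤ m)).trans (hm ▸ dvd_rfl)).trans (card_subgroup_dvd_card (S : Subgroup K))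
    have h7 : 3 ≤ m := by
      have := card_le_of_le hS
      rw [hn] at this
      rw [← Nat.pow_le_pow_iff_right hp.out.one_lt, ← hm]
      exact this
    rw [hm]
    congr 1; omega
  have hAS : A = S := Subgroup.eq_of_le_of_card_ge hS (by rw [hn]; exact hcS.le)
  have hcT : Nat.card T = p ^ 3 := by
    rw [← hcS]; exact (T.card_eq_multiplicity).trans (S.card_eq_multiplicity).symm
  have hPT : P = T := Subgroup.eq_of_le_of_card_ge hT (by rw [hP]; exact hcT.le)
  obtain ⟨g, hg⟩ := MulAction.exists_smul_eq K T S
  have hcomm : ∀ x ∈ (T : Subgroup K), ∀ y ∈ (T : Subgroup K), x * y = y * x := by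
    intro x hx y hy
    have h8 : ∀ z ∈ (T : Subgroup K), g * z * g⁻¹ ∈ A := by
      intro z hz
      rw [hAS, ← hg]
      rw [Sylow.coe_subgroup_smul]
      exact ⟨z, hz, rfl⟩
    have h9 := congrArg Subtype.val (h1.1.comm ⟨_, h8 x hx⟩ ⟨_, h8 y hy⟩)
    have h10 : g * x * g⁻¹ * (g * y * g⁻¹) = g * y * g⁻¹ * (g * x * g⁻¹) := h9
    have h11 : g * (x * y) * g⁻¹ = g * (y * x) * g⁻¹ := by
      have e1 : g * (x * y) * g⁻¹ = g * x * g⁻¹ * (g * y * g⁻¹) := by group
      have e2 : g * (y * x) * g⁻¹ = g * y * g⁻¹ * (g * x * g⁻¹) := by group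
      rw [e1, e2, h10]
    exact mul_left_cancel (mul_right_cancel h11)
  exact hab (hcomm a (hPT ▸ ha) b (hPT ▸ hb))

end Cfsg.Agent.H210.Loc

private theorem dce_98a4f24ff948 : _root_.True := by
  try have : _root_.True := by simp only [_root_.Cfsg.Agent.H210.Loc.w3.eq_1]
  exact _root_.True.intro
end
end
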